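import Groth.Agent.Props12.FlatOver
import Groth.Agent.ModStalk.Exact
import Groth.Agent.SerreDual.QCohCat
import Groth.Agent.FlatCxLib.Algebra
import Groth.Agent.Coherent.FiniteType
import Groth.Agent.Coherent.Devissage
import Groth.Agent.Coherent.Existence.SysKernel
import Groth.Agent.OmegaLib.StalkLocal
import Groth.Agent.AssSch12.PullbackPoint

/-!
# Flat quasi-coherent covers on schemes with affine diagonal
-/

set_option autoImplicit false
set_option linter.style.haveILetI false
set_option backward.isDefEq.respectTransparency false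
set_option maxHeartbeats 1000000

universe u

open CategoryTheory CategoryTheory.Limits AlgebraicGeometry Opposite TopologicalSpace
open Groth.Agent.Coherent

namespace Groth.Agent.FlatCov8

variable {X : Scheme.{u}}

theorem flat_of_smul_eq {R M : Type u} [CommRing R] [AddCommGroup M] (m₁ m₂ : Module R M)
    (h : ∀ (r : R) (x : M), @HSMul.hSMul R M M (@instHSMul R M m₁.toSMul) r x = @HSMul.hSMul R M M (@instHSMul R M m₂.toSMul) r x)
    (h₁ : @Module.Flat R M _ _ m₁) : @Module.Flat R M _ _ m₂ := by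
  rwa [Module.ext' m₁ m₂ h] at h₁

theorem isFlatAt_iff_over_id (M : X.Modules) (x : X) :
    FlatMod.IsFlatAt M x ↔ FlatMod.IsFlatOverAt (𝟙 X) M x := by
  have h : ∀ (r : X.presheaf.stalk x) (m : M.presheaf.stalk x),
      (show X.presheaf.stalk x from ((𝟙 X : X ⟶ X).stalkMap x).hom r) • m = r • m := by
    intro r m
    rw [Scheme.Hom.stalkMap_id]
    rfl
  exact ⟨flat_of_smul_eq (R := X.presheaf.stalk x) inferInstance (FlatMod.moduleStalkOver (𝟙 X) M x)
      fun r m => (h r m).symm,
    flat_of_smul_eq (R := X.presheaf.stalk x) (FlatMod.moduleStalkOver (𝟙 X) M x) inferInstance h⟩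

theorem isFlatOverAt_ι (U : X.Opens) (L : U.toScheme.Modules) (z : U.toScheme) (h : FlatMod.IsFlatAt L z) :
    FlatMod.IsFlatOverAt U.ι L z := by
  letI := FlatMod.moduleStalkOver U.ι L z
  letI := (U.ι.stalkMap z).hom.toAlgebra
  haveI : IsScalarTower (X.presheaf.stalk (U.ι z)) (U.toScheme.presheaf.stalk z) (L.presheaf.stalk z) :=
    IsScalarTower.of_compHom _ _ _
  haveI : Module.Flat (X.presheaf.stalk (U.ι z)) (U.toScheme.presheaf.stalk z) := Flat.stalkMap U.ι z
  haveI : Module.Flat (U.toScheme.presheaf.stalk z) (L.presheaf.stalk z) := h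
  exact Module.Flat.trans (X.presheaf.stalk (U.ι z)) (U.toScheme.presheaf.stalk z) (L.presheaf.stalk z)

/-- Direct images of flat modules along affine open immersions are flat. -/
theorem isFlatAt_push_ι (U : X.Opens) [IsAffineHom U.ι] (L : U.toScheme.Modules) [Coh.IsQCoh L]
    (hL : ∀ z, FlatMod.IsFlatAt L z) (x : X) :
    FlatMod.IsFlatAt ((Scheme.Modules.pushforward U.ι).obj L) x := by
  haveI : Coh.IsQCoh ((Scheme.Modules.pushforward U.ι).obj L) := isQCoh_push U.ι _
  obtain ⟨V, hV, hxV, -⟩ := exists_isAffineOpen_mem_and_subset (x := x) (U := ⊤) trivial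
  rw [isFlatAt_iff_over_id]
  refine (Props12.flat_sections_iff (𝟙 X) _ hV hV le_rfl).1 ?_ x hxV
  have h1 := (Props12.flat_sections_iff U.ι L hV (hV.preimage U.ι) le_rfl).2 fun z _ => isFlatOverAt_ι U L z (hL z)
  refine flat_of_smul_eq (R := Γ(X, V)) (EGA43.QcohFlat.overModule U.ι L V (U.ι ⁻¹ᵁ V) le_rfl)
    (EGA43.QcohFlat.overModule (𝟙 X) ((Scheme.Modules.pushforward U.ι).obj L) V V le_rfl) (fun r m => Eq.symm ?_) h1
  show (U.ι.app V ((𝟙 X : X ⟶ X).appLE V V le_rfl r)) • (show Γ(L, U.ι ⁻¹ᵁ V) from m) =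
    (U.ι.appLE V (U.ι ⁻¹ᵁ V) le_rfl r) • (show Γ(L, U.ι ⁻¹ᵁ V) from m)
  congr 1
  rw [← Scheme.Hom.app_eq_appLE]
  simp [Scheme.Hom.appLE]
  erw [X.presheaf.map_id]
  rfl

/-- Restriction then direct image keeps flatness over an open. -/
theorem isFlatAt_push_restrict (U : X.Opens) [IsAffineHom U.ι] (F : X.Modules) [Coh.IsQCoh F] (W : X.Opens)
    (hF : ∀ x ∈ W, FlatMod.IsFlatAt F x) (x : X) (hx : x ∈ W) :
    FlatMod.IsFlatAt ((Scheme.Modules.pushforward U.ι).obj (F.restrict U.ι)) x := by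
  haveI : Coh.IsQCoh ((Scheme.Modules.pushforward U.ι).obj (F.restrict U.ι)) := isQCoh_push U.ι _
  obtain ⟨V, hV, hxV, hVW⟩ := exists_isAffineOpen_mem_and_subset (x := x) (U := W) hx
  rw [isFlatAt_iff_over_id]
  refine (Props12.flat_sections_iff (𝟙 X) _ hV hV le_rfl).1 ?_ x hxV
  have hle : U.ι ''ᵁ (U.ι ⁻¹ᵁ V) ≤ (𝟙 X : X ⟶ X) ⁻¹ᵁ V := by rintro _ ⟨z, hz, rfl⟩; exact hz
  have h1 := (Props12.flat_sections_iff (𝟙 X) F hV ((hV.preimage U.ι).image_of_isOpenImmersion U.ι) hle).2
    fun z hz => (isFlatAt_iff_over_id F z).1 (hF z (hVW (hle hz)))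
  refine flat_of_smul_eq (R := Γ(X, V)) (EGA43.QcohFlat.overModule (𝟙 X) F V (U.ι ''ᵁ (U.ι ⁻¹ᵁ V)) hle)
    (EGA43.QcohFlat.overModule (𝟙 X) ((Scheme.Modules.pushforward U.ι).obj (F.restrict U.ι)) V V le_rfl) (fun r m => Eq.symm ?_) h1
  show ((U.ι.appIso (U.ι ⁻¹ᵁ V)).inv (U.ι.app V ((𝟙 X : X ⟶ X).appLE V V le_rfl r))) •
      (show Γ(F, U.ι ''ᵁ (U.ι ⁻¹ᵁ V)) from m) =
    ((𝟙 X : X ⟶ X).appLE V (U.ι ''ᵁ (U.ι ⁻¹ᵁ V)) hle r) • (show Γ(F, U.ι ''ᵁ (U.ι ⁻¹ᵁ V)) from m)
  congr 1
  simp [Scheme.Hom.appLE, Scheme.Opens.ι_app, Scheme.Opens.ι_appIso]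
  erw [X.presheaf.map_id]
  rfl

/-- On an affine scheme every quasi-coherent module is a quotient of a flat quasi-coherent one. -/
theorem exists_flat_cover_affine [IsAffine X] (M : X.Modules) [Coh.IsQCoh M] :
    ∃ (P : X.Modules) (π : P ⟶ M), Coh.IsQCoh P ∧ (∀ x, FlatMod.IsFlatAt P x) ∧ Epi π := by
  let φ : Γ(M, ⊤) → (Coh.structureModule X ⟶ M) := fun s => unitDesc M s
  let P : X.Modules := ∐ fun _ : Γ(M, ⊤) => Coh.structureModule X
  haveI : Coh.IsQCoh (Coh.structureModule X) := QCohLoc.isQCoh_structureModule X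
  refine ⟨P, Sigma.desc φ, SerreDual.isQCoh_colimit X _ fun _ => QCohLoc.isQCoh_structureModule X, fun x => ?_, ?_⟩
  · haveI : Projective ((DerSch.stalkFunctor X x).obj (Coh.structureModule X)) := by
      refine (IsProjective.iff_projective (R := X.presheaf.stalk x) _).1 ?_
      exact Module.Projective.of_equiv (LinearEquiv.ofBijective
        (LinearMap.toSpanSingleton (X.presheaf.stalk x) _ (AssSch12.unitOne x)) (AssSch12.bijective_smul_unitOne x))
    haveI : Module.Projective (X.presheaf.stalk x) ((DerSch.stalkFunctor X x).obj P) :=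
      (IsProjective.iff_projective (R := X.presheaf.stalk x) _).2
        (Projective.of_iso (PreservesCoproduct.iso (DerSch.stalkFunctor X x)
          (fun _ : Γ(M, ⊤) => Coh.structureModule X)).symm inferInstance :
          Projective ((DerSch.stalkFunctor X x).obj P))
    exact (inferInstance : Module.Flat (X.presheaf.stalk x) ((DerSch.stalkFunctor X x).obj P))
  · refine OmegaLib.epi_of_stalks_surjective _ fun x v => ?_
    obtain ⟨f, m, hf, hfm⟩ := QCohLoc.exists_smul_stalk_eq_germ M (isAffineOpen_top X) (x := x) trivial v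
    obtain ⟨r, hr⟩ := ((Scheme.mem_basicOpen X f x (show x ∈ (⊤ : X.Opens) from trivial)).1 hf).exists_left_inv
    let w : Γ(P, ⊤) := (Sigma.ι (fun _ : Γ(M, ⊤) => Coh.structureModule X) m).app ⊤ (1 : Γ(X, ⊤))
    have hw : (Sigma.desc φ).app ⊤ w = m := by
      show ((Sigma.ι (fun _ : Γ(M, ⊤) => Coh.structureModule X) m) ≫ Sigma.desc φ).app ⊤ (1 : Γ(X, ⊤)) = m
      rw [Sigma.ι_desc]
      exact (unitVal_unitDesc M m ⊤).trans (resM_refl M m)
    refine ⟨r • P.presheaf.germ ⊤ x trivial w, ?_⟩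
    rw [map_smul]
    refine (congrArg (r • ·) ((stalk_map_germ (Sigma.desc φ) (show x ∈ (⊤ : X.Opens) from trivial) w).trans (congrArg _ hw))).trans ?_
    show r • M.presheaf.germ ⊤ x trivial m = v
    rw [← hfm, smul_smul, hr]
    exact one_smul _ _

/-- One step: flatness over `W` extended over the affine open `U`. -/
theorem exists_step (U : X.Opens) (hU : IsAffineOpen U) [IsAffineHom U.ι] (F : X.Modules) [Coh.IsQCoh F]
    (W : X.Opens) (hF : ∀ x ∈ W, FlatMod.IsFlatAt F x) :
    ∃ (F' : X.Modules) (π : F' ⟶ F), Coh.IsQCoh F' ∧ Epi π ∧ ∀ x ∈ W ⊔ U, FlatMod.IsFlatAt F' x := by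
  haveI : IsAffine U.toScheme := hU
  obtain ⟨P, p, hP, hPf, hp⟩ := exists_flat_cover_affine (F.restrict U.ι)
  let A := (Scheme.Modules.pushforward U.ι).obj P
  let B := (Scheme.Modules.pushforward U.ι).obj (F.restrict U.ι)
  let g : A ⟶ B := (Scheme.Modules.pushforward U.ι).map p
  let η : F ⟶ B := (Scheme.Modules.restrictAdjunction U.ι).unit.app F
  haveI : Coh.IsQCoh A := isQCoh_push U.ι _
  haveI : Coh.IsQCoh B := isQCoh_push U.ι _
  haveI : Epi g := Coherent.Existence.epi_of_affine_surjective g fun V hV =>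
    Coherent.Existence.app_surjective_of_epi p (hV.preimage U.ι)
  let q : pullback g η ⟶ A := pullback.fst g η
  let π : pullback g η ⟶ F := pullback.snd g η
  haveI : Coh.IsQCoh (kernel g) := isQCoh_kernel g
  let i : kernel g ⟶ pullback g η := pullback.lift (kernel.ι g) 0 (by simp)
  haveI : Mono i := mono_of_mono_fac (show i ≫ q = kernel.ι g from pullback.lift_fst _ _ _)
  let S : ShortComplex X.Modules := ShortComplex.mk i π (pullback.lift_snd _ _ _)
  haveI : Epi π := inferInstance
  have hS : S.ShortExact :=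
    { exact := S.exact_of_f_is_kernel (KernelFork.IsLimit.ofι' i S.zero fun {T} a ha =>
        ⟨kernel.lift g (a ≫ q) (by
          rw [Category.assoc, show q ≫ g = π ≫ η from pullback.condition, ← Category.assoc]
          exact (congrArg (· ≫ η) ha).trans zero_comp),
          pullback.hom_ext (by simp [S, i, q]) (by simpa [S, i, π] using ha.symm)⟩) }
  haveI : Coh.IsQCoh S.X₁ := inferInstanceAs (Coh.IsQCoh (kernel g))
  haveI : Coh.IsQCoh S.X₃ := inferInstanceAs (Coh.IsQCoh F)
  refine ⟨pullback g η, π, isQCoh_X₂ hS, inferInstance, fun x hx => ?_⟩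
  let St := DerSch.stalkFunctor X x
  by_cases hxU : x ∈ U
  · haveI : IsIso (St.map η) := by
      refine (ConcreteCategory.isIso_iff_bijective _).2 ⟨?_, fun v => ?_⟩
      · refine (injective_iff_map_eq_zero (St.map η).hom).2 fun v hv => ?_
        obtain ⟨V, hV, s, rfl⟩ := F.presheaf.exists_germ_eq (show F.presheaf.stalk x from v)
        have h1 : B.presheaf.germ V x hV (η.app V s) = 0 := (stalk_map_germ η hV s).symm.trans hv
        obtain ⟨V', hV', a, b, e⟩ := B.presheaf.germ_eq x hV hV (η.app V s) 0 (h1.trans (map_zero _).symm)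
        obtain rfl : a = b := Subsingleton.elim a b
        rw [map_zero] at e
        have hle : V' ⊓ U ≤ V := inf_le_left.trans (leOfHom a)
        have himg : U.ι ''ᵁ (U.ι ⁻¹ᵁ (V' ⊓ U)) = V' ⊓ U := by
          rw [Scheme.Hom.image_preimage_eq_opensRange_inf, Scheme.Opens.opensRange_ι]
          exact inf_eq_right.2 inf_le_right
        rw [← TopCat.Presheaf.germ_res_apply F.presheaf (homOfLE hle) x ⟨hV', hxU⟩ s]
        suffices h : resM F hle s = 0 by
          change F.presheaf.germ _ x _ (resM F hle s) = 0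
          rw [h, map_zero]
        have h2 : η.app (V' ⊓ U) (resM F hle s) = 0 := by
          rw [app_resM]
          have h3 := congrArg (resM B (inf_le_left : V' ⊓ U ≤ V')) (show resM B (leOfHom a) (η.app V s) = 0 from e)
          rwa [resM_resM, map_zero] at h3
        rw [Scheme.Modules.restrictAdjunction_unit_app_app] at h2
        have h4 := congrArg (resM F himg.ge) (show resM F himg.le (resM F hle s) = 0 from h2)
        rwa [resM_resM, map_zero, resM_refl] at h4
      · obtain ⟨V, hV, s, rfl⟩ := B.presheaf.exists_germ_eq (show B.presheaf.stalk x from v)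
        have himg : U.ι ''ᵁ (U.ι ⁻¹ᵁ (V ⊓ U)) = V ⊓ U := by
          rw [Scheme.Hom.image_preimage_eq_opensRange_inf, Scheme.Opens.opensRange_ι]
          exact inf_eq_right.2 inf_le_right
        let s' : Γ(F, U.ι ''ᵁ (U.ι ⁻¹ᵁ (V ⊓ U))) := resM B (inf_le_left : V ⊓ U ≤ V) s
        refine ⟨F.presheaf.germ (V ⊓ U) x ⟨hV, hxU⟩ (resM F himg.ge s'), ?_⟩
        refine (stalk_map_germ η _ _).trans ?_
        rw [Scheme.Modules.restrictAdjunction_unit_app_app]
        refine Eq.trans (congrArg (B.presheaf.germ (V ⊓ U) x ⟨hV, hxU⟩)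
          (show resM F himg.le (resM F himg.ge s') = s' from by rw [resM_resM]; exact resM_refl F s')) ?_
        exact TopCat.Presheaf.germ_res_apply B.presheaf (homOfLE (inf_le_left : V ⊓ U ≤ V)) x ⟨hV, hxU⟩ s
    haveI : IsIso (St.map q) := by
      have h := (IsPullback.of_hasPullback g η).map St
      exact MorphismProperty.of_isPullback (P := .isomorphisms _) h.flip inferInstance
    haveI : Module.Flat (X.presheaf.stalk x) (St.obj A) := isFlatAt_push_ι U P hPf x
    exact Module.Flat.of_linearEquiv (R := X.presheaf.stalk x) (M := St.obj A) (asIso (St.map q)).toLinearEquiv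
  · have hxW : x ∈ W := by
      rcases hx with h | h
      · exact h
      · exact (hxU h).elim
    have hS' := hS.map_of_exact St
    haveI : Module.Flat (X.presheaf.stalk x) (St.obj F) := hF x hxW
    haveI : Module.Flat (X.presheaf.stalk x) (St.obj (kernel g)) := by
      haveI : Module.Flat (X.presheaf.stalk x) (St.obj A) := isFlatAt_push_ι U P hPf x
      haveI : Module.Flat (X.presheaf.stalk x) (St.obj B) := isFlatAt_push_restrict U F W hF x hxW
      let S₂ : ShortComplex X.Modules := ShortComplex.mk (kernel.ι g) g (kernel.condition g)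
      have h₂ : S₂.ShortExact := { exact := S₂.exact_of_f_is_kernel (kernelIsKernel g) }
      have h₂' := h₂.map_of_exact St
      exact FlatCxLib.flat_of_exact_left (St.map (kernel.ι g)).hom (St.map g).hom
        ((ShortComplex.ShortExact.moduleCat_exact_iff_function_exact _).1 h₂'.exact)
        h₂'.moduleCat_surjective_g h₂'.moduleCat_injective_f
    exact FlatCxLib.flat_of_exact_mid (St.map i).hom (St.map π).hom
      ((ShortComplex.ShortExact.moduleCat_exact_iff_function_exact _).1 hS'.exact)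
      hS'.moduleCat_surjective_g hS'.moduleCat_injective_f

/-- Flat quasi-coherent covers. -/
theorem exists_flat_cover [CompactSpace X]
    (hd : ∀ V W : X.Opens, IsAffineOpen V → IsAffineOpen W → IsAffineOpen (V ⊓ W))
    (M : X.Modules) (hM : Coh.IsQCoh M) :
    ∃ (F : X.Modules) (π : F ⟶ M), Coh.IsQCoh F ∧ FlatMod.IsFlat F ∧ Epi π := by
  classical
  have key : ∀ s : Finset X.affineOpens, ∃ (F : X.Modules) (π : F ⟶ M), Coh.IsQCoh F ∧ Epi π ∧
      ∀ x ∈ s.sup (fun U : X.affineOpens => U.1), FlatMod.IsFlatAt F x := by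
    intro s
    induction s using Finset.induction with
    | empty => exact ⟨M, 𝟙 M, hM, inferInstance, fun x hx => (show False from by simp at hx).elim⟩
    | insert U s _ ih =>
      obtain ⟨F, π, hF, hπ, hflat⟩ := ih
      haveI : IsAffineHom U.1.ι := ⟨fun V hV => by
        refine U.1.ι.isAffineOpen_iff_of_isOpenImmersion.1 ?_
        rw [Scheme.Hom.image_preimage_eq_opensRange_inf, Scheme.Opens.opensRange_ι]
        exact hd _ _ U.2 hV⟩
      obtain ⟨F', π', hF', hπ', hflat'⟩ := exists_step U.1 U.2 F _ hflat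
      refine ⟨F', π' ≫ π, hF', epi_comp _ _, fun x hx => hflat' x ?_⟩
      rw [Finset.sup_insert] at hx
      rwa [sup_comm]
  obtain ⟨t, ht⟩ := isCompact_univ.elim_finite_subcover (fun U : X.affineOpens => (U.1 : Set X))
    (fun U => U.1.isOpen) fun x _ => by
      obtain ⟨V, hV, hx, -⟩ := exists_isAffineOpen_mem_and_subset (x := x) (U := ⊤) trivial
      exact Set.mem_iUnion.2 ⟨⟨V, hV⟩, hx⟩
  obtain ⟨F, π, hF, hπ, hflat⟩ := key t
  refine ⟨F, π, hF, fun x => hflat x ?_, hπ⟩
  obtain ⟨U, hU, hx⟩ := Set.mem_iUnion₂.1 (ht (Set.mem_univ x))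
  exact Finset.le_sup (f := fun U : X.affineOpens => U.1) hU hx

end Groth.Agent.FlatCov8
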